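import Cfsg.Agent.CosetEnum.Front

/-!
A faster static test of certificates with many relators: every word carries the number of the relator, the rotation and
the orientation (owner: helper66).
-/

set_option autoImplicit false

namespace Cfsg.Agent.CosetEnum

/-- rotation -/
def rotL (r : List ℕ) (k : ℕ) : List ℕ := r.drop k ++ r.take k

/-- `c` is the rotation of a relator, up to inversion, as the annotation `[i, k, f]` says -/
def isRelA (l : List (ℕ × ℕ)) (rels : List (List ℕ)) (a c : List ℕ) : Bool :=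
  match a with
  | [i, k, 0] => rotL (rels.getD i []) k == c
  | [i, k, 1] => rotL (rels.getD i []) k == invW l c
  | _ => false

section

variable {G : Type*} [Group G] {g : ℕ → G}

theorem prod_rotL {r : List ℕ} (k : ℕ) (hr : (r.map g).prod = 1) : ((rotL r k).map g).prod = 1 := by
  unfold rotL
  rw [List.map_append, List.prod_append]
  have h : ((r.take k).map g).prod * ((r.drop k).map g).prod = 1 := by
    rw [← List.prod_append, ← List.map_append, List.take_append_drop, hr]
  rw [mul_eq_one_iff_eq_inv] at h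
  rw [h, mul_inv_cancel]

theorem prod_getD {rels : List (List ℕ)} (hrels : ∀ r ∈ rels, (r.map g).prod = 1) (i : ℕ) :
    ((rels.getD i []).map g).prod = 1 := by
  rcases Nat.lt_or_ge i rels.length with h | h
  · rw [List.getD_eq_getElem _ _ h]
    exact hrels _ (List.getElem_mem h)
  · rw [List.getD_eq_default _ _ h]
    rfl

variable {l : List (ℕ × ℕ)} (hl : ∀ x, g (ivL l x) = (g x)⁻¹)
include hl

theorem prod_of_isRelA {rels : List (List ℕ)} (hrels : ∀ r ∈ rels, (r.map g).prod = 1) {a c : List ℕ}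
    (h : isRelA l rels a c = true) : (c.map g).prod = 1 := by
  unfold isRelA at h
  split at h
  · rename_i i k
    rw [beq_iff_eq] at h
    rw [← h]
    exact prod_rotL k (prod_getD hrels i)
  · rename_i i k
    rw [beq_iff_eq] at h
    have h1 := prod_rotL k (prod_getD hrels i)
    rw [h, prod_invW hl] at h1
    exact inv_eq_one.1 h1
  · exact absurd h (by simp)

end

/-- The test of the words and letters. -/
def LL.okA (ng : ℕ) (l : List (ℕ × ℕ)) (rels subs : List (List ℕ)) : LL → Bool
  | .nil => true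
  | .cons x y tr sb L => isLet ng x && isLet ng y && Nat.beq y (ivL l x) &&
      tr.allB (fun z a => z.all (isLet ng) && isRelA l rels a (z ++ [y])) &&
      sb.allB (fun z₁ z₂ => z₁.all (isLet ng) && z₂.all (isLet ng) && isSub l subs (z₁ ++ x :: invW l z₂)) &&
      LL.okA ng l rels subs L

/-- The static test of a certificate. -/
def staticA (ng : ℕ) (l : List (ℕ × ℕ)) (rels subs : List (List ℕ)) (P : Par) (L : LL) : Bool :=
  LL.okA ng l rels subs L &&
  P.tr.allB (fun z a => z.all (isLet ng) && isRelA l rels a z) &&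
  ((List.range (ng + 1)).all fun x => !(isLet ng x) || L.lets.contains x) &&
  Nat.ble P.m 1048576 && Nat.ble 1 P.m

theorem LL.ok_of_okA {G : Type*} [Group G] {g : ℕ → G} {l : List (ℕ × ℕ)} (hl : ∀ x, g (ivL l x) = (g x)⁻¹)
    {H : Subgroup G} {ng : ℕ} {rels subs : List (List ℕ)} (hrels : ∀ r ∈ rels, (r.map g).prod = 1)
    (hsubs : ∀ r ∈ subs, (r.map g).prod ∈ H) {L : LL} (h : L.okA ng l rels subs = true) :
    L.OK H (fun x => (g x)⁻¹) (fun x => isLet ng x = true) := by
  induction L with
  | nil => trivial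
  | cons x y tr sb L ih =>
    simp only [LL.okA, Bool.and_eq_true] at h
    obtain ⟨⟨⟨⟨⟨h1, h2⟩, h3⟩, h4⟩, h5⟩, h6⟩ := h
    have h3 := beq_true h3
    have hxy : g y = (g x)⁻¹ := by rw [h3, hl]
    refine ⟨h1, h2, ?_, ?_, ?_, ih h6⟩
    · simp [hxy]
    · refine WT.all_of_allB ?_ h4
      intro z a hz
      simp only [Bool.and_eq_true, List.all_eq_true] at hz
      refine ⟨hz.1, ?_⟩
      have := prod_of_isRelA hl hrels hz.2
      rw [val_inv]
      rw [List.map_append, List.prod_append, List.map_cons, List.map_nil, List.prod_cons, List.prod_nil, mul_one,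
        hxy] at this
      rw [mul_inv_eq_one.1 this]
    · refine WT.all_of_allB ?_ h5
      intro z₁ z₂ hz
      simp only [Bool.and_eq_true, List.all_eq_true] at hz
      refine ⟨hz.1.1, hz.1.2, ?_⟩
      have := mem_of_isSub hl hsubs hz.2
      rw [val_inv, val_inv]
      rw [List.map_append, List.prod_append, List.map_cons, List.prod_cons, prod_invW hl] at this
      have := H.inv_mem this
      convert this using 1
      simp [mul_assoc]

/-- **Coset enumeration.** -/
theorem mainA {G : Type*} [Group G] (g : ℕ → G) (H : Subgroup G) (ng : ℕ) (l : List (ℕ × ℕ))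
    (hl : ∀ x, g (ivL l x) = (g x)⁻¹) (rels subs : List (List ℕ)) (hrels : ∀ r ∈ rels, (r.map g).prod = 1)
    (hsubs : ∀ r ∈ subs, (r.map g).prod ∈ H) (P : Par) (L : LL)
    (hic : ∀ x y, P.ic x y = true → isLet ng x = true ∧ isLet ng y = true ∧ y = ivL l x)
    (hst : staticA ng l rels subs P L = true) (n : ℕ)
    (hN : ∀ w : ℕ → G, w 0 = 1 → L.OK H (fun x => (g x)⁻¹) (fun x => isLet ng x = true) →
      (∀ x y, P.ic x y = true → isLet ng x = true ∧ isLet ng y = true ∧ (g x)⁻¹ * (g y)⁻¹ = 1) →
      (P.tr.All fun z _ => (∀ a ∈ z, isLet ng a = true) ∧ val (fun x => (g x)⁻¹) z = 1) → P.m ≤ 1048576 →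
      (∀ i < P.m, NodeOK H (fun x => (g x)⁻¹) w P (fun x => isLet ng x = true) L i) ∧ realCount P 0 P.m = n) :
    H.relIndex (Subgroup.closure (g '' {x | isLet ng x = true})) ≤ n ∧
      H.relIndex (Subgroup.closure (g '' {x | isLet ng x = true})) ≠ 0 := by
  simp only [staticA, Bool.and_eq_true] at hst
  obtain ⟨⟨⟨⟨h1, h2⟩, h3⟩, h4⟩, h5⟩ := hst
  have hm := ble_true h4
  have hm0 := ble_true h5
  have hOK := LL.ok_of_okA hl hrels hsubs h1
  have hA : ∀ x, isLet ng x = true → ∃ y, L.Mem x y := by
    intro x hx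
    apply LL.mem_of_lets
    have hx' := hx
    simp only [isLet, Bool.and_eq_true] at hx'
    have h6 := ble_true hx'.2
    simp only [List.all_eq_true, List.mem_range] at h3
    have h7 := h3 x (by omega)
    simpa [hx] using h7
  have hS : L.Symm := by
    intro x y hxy
    obtain ⟨_, hy, _⟩ := hxy.ok hOK
    exact hA y hy
  have htr : P.tr.All fun z _ => (∀ a ∈ z, isLet ng a = true) ∧ val (fun x => (g x)⁻¹) z = 1 := by
    refine WT.all_of_allB ?_ h2
    intro z a hz
    simp only [Bool.and_eq_true, List.all_eq_true] at hz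
    refine ⟨hz.1, ?_⟩
    rw [val_inv, prod_of_isRelA hl hrels hz.2, inv_one]
  have hic' : ∀ x y, P.ic x y = true → isLet ng x = true ∧ isLet ng y = true ∧ (g x)⁻¹ * (g y)⁻¹ = 1 := by
    intro x y hxy
    obtain ⟨hx, hy, h6⟩ := hic x y hxy
    refine ⟨hx, hy, ?_⟩
    rw [h6, hl]
    simp
  obtain ⟨g1, g2⟩ := hN (wd P (fun x => (g x)⁻¹) L) (wd_zero L) hOK hic' htr hm
  have := relIndex_le hm hm0 hOK hS hA g1 g2
  have hcl : Subgroup.closure ((fun x => (g x)⁻¹) '' {x | isLet ng x = true}) =
      Subgroup.closure (g '' {x | isLet ng x = true}) := by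
    apply le_antisymm
    · rw [Subgroup.closure_le]
      rintro _ ⟨x, hx, rfl⟩
      exact Subgroup.inv_mem _ (Subgroup.subset_closure ⟨x, hx, rfl⟩)
    · rw [Subgroup.closure_le]
      rintro _ ⟨x, hx, rfl⟩
      have : ((g x)⁻¹)⁻¹ ∈ Subgroup.closure ((fun x => (g x)⁻¹) '' {x | isLet ng x = true}) :=
        Subgroup.inv_mem _ (Subgroup.subset_closure ⟨x, hx, rfl⟩)
      rwa [inv_inv] at this
  rwa [hcl] at this

/-- **Coset enumeration**: `|K : H ∩ K| ≤ n` for the group `K` generated by the letters. -/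
theorem upperA {G : Type*} [Group G] (g : ℕ → G) (H : Subgroup G) (ng : ℕ) (l : List (ℕ × ℕ))
    (hl : ∀ x, g (ivL l x) = (g x)⁻¹) (rels subs : List (List ℕ)) (hrels : ∀ r ∈ rels, (r.map g).prod = 1)
    (hsubs : ∀ r ∈ subs, (r.map g).prod ∈ H) (P : Par) (L : LL) (hic : P.ic = icG ng l)
    (hst : staticA ng l rels subs P L = true) {n : ℕ} (hN : Seg P L P.m n) :
    H.relIndex (Subgroup.closure (g '' {x | isLet ng x = true})) ≤ n ∧
      H.relIndex (Subgroup.closure (g '' {x | isLet ng x = true})) ≠ 0 := by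
  refine mainA g H ng l hl rels subs hrels hsubs P L ?_ hst n ?_
  · rw [hic]; exact icG_spec ng l
  · intro w h0 hOK hic' htr hm
    exact Seg.sound hm h0 hOK hic' htr hN le_rfl

end Cfsg.Agent.CosetEnum
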