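import Cfsg.Agent.CosetEnum.Level
import Cfsg.Agent.SimpleCrit.Basic

/-!
Simplicity from a prime that does not divide the order of the point stabiliser (owner: helper66).
-/

set_option autoImplicit false

namespace Cfsg.Agent.CosetEnum

open MulAction

/-- A faithful primitive group that is normally generated by `p`-elements, with point stabilisers of order prime to `p`. -/
theorem simple_of_prime {G α : Type*} [Group G] [Finite G] [MulAction G α] [Finite α] [FaithfulSMul G α]
    [IsPreprimitive G α] [Nontrivial α] {p : ℕ} (hp : p.Prime) (a : α) (hstab : ¬ p ∣ Nat.card (stabilizer G a))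
    (S : Set G) (hS : ∀ N : Subgroup G, N.Normal → S ⊆ N → N = ⊤) (hSp : ∀ s ∈ S, ∃ k : ℕ, s ^ p ^ k = 1) :
    IsSimpleGroup G := by
  have hnt : Nontrivial G := by
    obtain ⟨x, y, hxy⟩ := exists_pair_ne α
    obtain ⟨g, hg⟩ := exists_smul_eq G x y
    refine ⟨g, 1, ?_⟩
    rintro rfl
    exact hxy (by simpa using hg)
  refine ⟨fun N hNn => ?_⟩
  by_cases hNbot : N = ⊥
  · exact Or.inl hNbot
  right
  have hNt : IsPretransitive N α := SimpleCrit.normal_isPretransitive N hNbot
  have hidx : ¬ p ∣ N.index := by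
    have h1 : N.index ∣ Nat.card (stabilizer G a) := by
      have hα : Nonempty α := ⟨a⟩
      have hG : Nat.card G = Nat.card α * Nat.card (stabilizer G a) := by
        have := (stabilizer G a).card_mul_index
        rw [MulAction.index_stabilizer_of_transitive] at this
        rw [← this, mul_comm]
      have hN : Nat.card α ∣ Nat.card N := SimpleCrit.card_dvd_of_pretransitive (G := N) (α := α)
      obtain ⟨k, hk⟩ := hN
      have h2 : Nat.card α * (k * N.index) = Nat.card α * Nat.card (stabilizer G a) := by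
        rw [← hG, ← N.card_mul_index, hk, mul_assoc]
      have h3 : 0 < Nat.card α := Nat.card_pos
      exact Dvd.intro_left _ (Nat.eq_of_mul_eq_mul_left h3 h2)
    exact fun h => hstab (h.trans h1)
  apply hS N hNn
  intro s hs
  obtain ⟨k, hk⟩ := hSp s hs
  have h1 : orderOf (QuotientGroup.mk' N s) ∣ p ^ k := by
    apply orderOf_dvd_of_pow_eq_one
    rw [← map_pow, hk, map_one]
  have h2 : orderOf (QuotientGroup.mk' N s) ∣ N.index := by
    have := orderOf_dvd_natCard (QuotientGroup.mk' N s)
    rwa [← Subgroup.index_eq_card] at this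
  have h3 : orderOf (QuotientGroup.mk' N s) = 1 := by
    obtain ⟨j, _, hj⟩ := (Nat.dvd_prime_pow hp).1 h1
    rcases Nat.eq_zero_or_pos j with h | h
    · rw [hj, h, pow_zero]
    · exfalso
      apply hidx
      refine dvd_trans ?_ h2
      rw [hj]
      exact dvd_pow_self p (by omega)
  rw [orderOf_eq_one_iff] at h3
  exact (QuotientGroup.eq_one_iff s).1 h3

section

variable {G : Type} [Group G] {g : ℕ → G} {ng k : ℕ} {l : List (ℕ × ℕ)} {P : Par} {lets bs : List ℕ}

/-- Simplicity of a group that acts on the points of a table. -/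
theorem Lvl.simple_prime (L : Lvl g ng l lets P k bs) (hinv : ∀ x, g (ivL l x) = (g x)⁻¹) (hfin : Finite G)
    (hF : Faith g lets P) (hp : primB P.m (gaps (1 :: bs)) = true) {p : ℕ} (hpp : p.Prime)
    (hcard : ¬ p ∣ Nat.card (Cl g k)) (S : Set G) (hS : ∀ N : Subgroup G, N.Normal → S ⊆ N → N = ⊤)
    (hSp : ∀ s ∈ S, ∃ k : ℕ, s ^ p ^ k = 1) : IsSimpleGroup G := by
  have hpos := L.pos
  obtain ⟨A, letsk, cw, h1, h2, h3, h3k, h4, h5, h6, h7⟩ := L.ex
  have hprim := prim_of_orbs hpos h2 hinv h3k h4 h5 h6 h7 hp
  have hnt : Nontrivial (Fin P.m) := Fin.nontrivial_iff_two_le.2 (by omega)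
  have hfa : FaithfulSMul G (Fin P.m) := by
    constructor
    intro y z hyz
    exact hF A h3 (Equiv.ext hyz)
  exact simple_of_prime hpp (⟨0, by omega⟩ : Fin P.m) (by rwa [h7]) S hS hSp

end

section

variable {G : Type*} [Group G] {P : Par} [MulAction G (Fin P.m)] {g : ℕ → G} {lets : List ℕ}

/-- the chain bounds the order times the order of the pointwise stabiliser of the base points -/
theorem chain_sound_fix [Finite G] (h : Acts G P g lets) {ls : List (ℕ × List ℕ)} {F : List ℕ}
    (hc : chainB P lets ls F = true) :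
    (ls.map fun p => p.2.length).prod *
      Nat.card (fixF (P := P) (Subgroup.closure (g '' {x | x ∈ lets})) ((ls.map fun p => p.1).reverse ++ F)) ≤
      Nat.card (fixF (P := P) (Subgroup.closure (g '' {x | x ∈ lets})) F) := by
  induction ls generalizing F with
  | nil => simp
  | cons p ls ih =>
    have hc' : @Bool.rec (fun _ => Bool) (@Bool.rec (fun _ => Bool) false (chainB P lets ls (p.1 :: F))
      (lvB P lets F p.1 p.2 0)) false (Nat.ble P.m p.1) = true := hc
    obtain ⟨h1, h2⟩ := sel_true_right hc'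
    obtain ⟨h3, h4⟩ := sel_true_left h2
    have hb := ble_false h1
    obtain ⟨S, hS, hS'⟩ := lvB_sound (b := ⟨p.1, hb⟩) h h3
    have h5 := ih h4
    set K := Subgroup.closure (g '' {x | x ∈ lets}) with hK
    set b : Fin P.m := ⟨p.1, hb⟩ with hbd
    have h6 : Nat.card (fixF (P := P) K F) =
        (MulAction.orbit (fixF (P := P) K F) b).ncard * Nat.card (fixF (P := P) K (p.1 :: F)) := by
      have h1 := (MulAction.stabilizer (fixF (P := P) K F) b).card_mul_index
      rw [MulAction.index_stabilizer] at h1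
      have h2 : Nat.card (MulAction.stabilizer (fixF (P := P) K F) b) = Nat.card (fixF (P := P) K (p.1 :: F)) := by
        apply Nat.card_congr
        refine ⟨fun k => ⟨(k : fixF (P := P) K F), ?_⟩, fun k => ⟨⟨k, ?_⟩, ?_⟩, fun k => rfl, fun k => rfl⟩
        · refine ⟨(k : fixF (P := P) K F).2.1, fun c hc => ?_⟩
          rcases List.mem_cons.1 hc with hc | hc
          · have : c = b := Fin.ext hc
            rw [this]
            exact k.2
          · exact (k : fixF (P := P) K F).2.2 c hc
        · exact ⟨k.2.1, fun c hc => k.2.2 c (List.mem_cons_of_mem _ hc)⟩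
        · exact k.2.2 b (by simp [hbd])
      rw [← h1, h2, mul_comm]
    have h7 : S.card ≤ (MulAction.orbit (fixF (P := P) K F) b).ncard := by
      rw [← Set.ncard_coe_finset]
      apply Set.ncard_le_ncard _ (Set.toFinite _)
      intro j hj
      obtain ⟨_, k, hk, hkb, hkF⟩ := hS' j hj
      exact ⟨⟨k, hk, hkF⟩, hkb⟩
    rw [List.map_cons, List.prod_cons, List.map_cons, List.reverse_cons, List.append_assoc, List.singleton_append,
      h6, ← hS, mul_assoc]
    exact Nat.mul_le_mul h7 h5

/-- a group whose order is the product of the chain: only the identity fixes the base points -/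
theorem fix_trivial [Finite G] (h : Acts G P g lets) {ls : List (ℕ × List ℕ)} (hc : chainB P lets ls [] = true)
    (hcard : Nat.card (ClL g lets) = (ls.map fun p => p.2.length).prod) (hpos : 0 < (ls.map fun p => p.2.length).prod)
    (y : G) (hy : y ∈ ClL g lets) (hfix : ∀ c : Fin P.m, (c : ℕ) ∈ ls.map (fun p => p.1) → y • c = c) : y = 1 := by
  have h1 := chain_sound_fix h hc
  have h2 : Nat.card (fixF (P := P) (Subgroup.closure (g '' {x | x ∈ lets})) []) = Nat.card (ClL g lets) := by
    apply Nat.card_congr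
    refine ⟨fun k => ⟨k, k.2.1⟩, fun k => ⟨k, k.2, fun c hc => absurd hc (by simp)⟩, fun _ => rfl, fun _ => rfl⟩
  rw [h2, hcard] at h1
  have h3 : Nat.card (fixF (P := P) (Subgroup.closure (g '' {x | x ∈ lets}))
      ((ls.map fun p => p.1).reverse ++ [])) ≤ 1 := by
    by_contra h4
    have h5 : (ls.map fun p => p.2.length).prod * 2 ≤ (ls.map fun p => p.2.length).prod :=
      (Nat.mul_le_mul_left _ (by omega)).trans h1
    omega
  have h4 : Subsingleton (fixF (P := P) (Subgroup.closure (g '' {x | x ∈ lets}))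
      ((ls.map fun p => p.1).reverse ++ [])) := by
    rw [Finite.card_le_one_iff_subsingleton] at h3
    exact h3
  have h5 := congrArg (fun z : fixF (P := P) (Subgroup.closure (g '' {x | x ∈ lets}))
      ((ls.map fun p => p.1).reverse ++ []) => (z : G)) (Subsingleton.elim (⟨y, hy, fun c hc => hfix c (by simpa using hc)⟩ :
        fixF (P := P) (Subgroup.closure (g '' {x | x ∈ lets})) ((ls.map fun p => p.1).reverse ++ [])) 1)
  exact h5

/-- Simplicity of the group of some letters from its action on the last interval of a table. -/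
theorem simple_on_last [Finite G] (h : Acts G P g lets) (hinv : ∀ x ∈ lets, ∃ y ∈ lets, g y = (g x)⁻¹)
    {lo : ℕ} (hlo : lo + 1 < P.m) {cw : List ℕ} (hO : Cov (orbC P lets cw lo P.m) lo P.m)
    {letsk cwk bs : List ℕ} (hk : Acts G P g letsk) (hkinv : ∀ x ∈ letsk, ∃ y ∈ letsk, g y = (g x)⁻¹)
    (hkm : ∀ x ∈ letsk, g x ∈ ClL g lets) (hOk : Orbs P letsk cwk (lo :: (lo + 1) :: bs))
    (hlast : lastD (lo + 1) bs = P.m) (hprim : primB (P.m - lo) (gaps ((lo + 1) :: bs)) = true)
    {ls : List (ℕ × List ℕ)} (hc : chainB P lets ls [] = true)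
    (hcard : Nat.card (ClL g lets) = (ls.map fun p => p.2.length).prod)
    (hbase : (ls.map fun p => p.1).all (fun b => Nat.ble lo b) = true)
    {p M : ℕ} (hM : Nat.card (ClL g lets) = (P.m - lo) * M) (hpp : p.Prime) (hpM : ¬ p ∣ M)
    (S : Set (ClL g lets)) (hS : ∀ N : Subgroup (ClL g lets), N.Normal → S ⊆ N → N = ⊤)
    (hSp : ∀ s ∈ S, ∃ k : ℕ, s ^ p ^ k = 1) : IsSimpleGroup (ClL g lets) := by
  have hlo' : lo < P.m := by omega
  have horb := orbC_sound h hinv le_rfl hlo' hO
  let a : Fin P.m := ⟨lo, hlo'⟩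
  let X := orbit (ClL g lets) a
  let a0 : X := ⟨a, mem_orbit_self _⟩
  have hXn : Nat.card X = P.m - lo := by
    have h1 : (orbit (ClL g lets) a).ncard = P.m - lo := by
      rw [horb]
      exact ncard_interval P le_rfl
    exact h1
  have hnt : Nontrivial X := by
    rw [← Finite.one_lt_card_iff_nontrivial, hXn]
    omega
  -- faithful
  have hfa : FaithfulSMul (ClL g lets) X := by
    constructor
    intro y z hyz
    have key : ∀ w : ClL g lets, (∀ q : X, w • q = q) → w = 1 := by
      intro w hw
      apply Subtype.ext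
      refine fix_trivial h hc hcard ?_ _ w.2 ?_
      · rw [← hcard]
        exact Nat.card_pos
      · intro c hc'
        have h1 : lo ≤ (c : ℕ) := by
          simp only [List.all_eq_true] at hbase
          exact ble_true (hbase _ hc')
        have h2 : c ∈ orbit (ClL g lets) a := by
          rw [horb]
          exact ⟨h1, c.2⟩
        have h3 := hw ⟨c, h2⟩
        exact congrArg (fun q : X => (q : Fin P.m)) h3
    have h1 := key (y⁻¹ * z) (fun q => by rw [mul_smul, ← hyz, inv_smul_smul])
    rw [inv_mul_eq_one] at h1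
    exact h1
  -- stabiliser
  have hstabk : ∀ x ∈ ClL g letsk, x • a = a := by
    intro x hx
    have h1 := orbC_sound hk hkinv hOk.2.1 hOk.1 hOk.2.2.1
    have h2 : x • a ∈ orbit (ClL g letsk) a := ⟨⟨x, hx⟩, rfl⟩
    rw [h1] at h2
    obtain ⟨h3, h4⟩ := h2
    apply Fin.ext
    show ((x • a : Fin P.m) : ℕ) = lo
    have h3 : lo ≤ ((x • a : Fin P.m) : ℕ) := h3
    have h4 : ((x • a : Fin P.m) : ℕ) < lo + 1 := h4
    omega
  have hle : ClL g letsk ≤ ClL g lets := by
    unfold ClL
    rw [Subgroup.closure_le]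
    rintro _ ⟨x, hx, rfl⟩
    exact hkm x hx
  have hprm : IsPreprimitive (ClL g lets) X := by
    apply prim_of_sub a0
    intro B ha0 hB hd
    set B' : Set (Fin P.m) := (fun q : X => (q : Fin P.m)) '' B with hB'
    have hB'k : ∀ x ∈ ClL g letsk, ∀ b ∈ B', x • b ∈ B' := by
      rintro x hx _ ⟨b, hb, rfl⟩
      refine ⟨(⟨x, hle hx⟩ : ClL g lets) • b, ?_, rfl⟩
      apply hB _ _ b hb
      rw [mem_stabilizer_iff]
      apply Subtype.ext
      exact hstabk x hx
    have h8 := ncard_mem_sums hk hkinv (lo := lo + 1) (bs := bs) hOk.2.2.2 hlast hB'k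
    have hBn : B'.ncard = B.ncard := Set.ncard_image_of_injective _ Subtype.val_injective
    have hB'lo : ∀ i ∈ B', lo ≤ (i : ℕ) := by
      rintro _ ⟨b, _, rfl⟩
      have := b.2
      rw [show ((b : Fin P.m) ∈ X) = ((b : Fin P.m) ∈ orbit (ClL g lets) a) from rfl, horb] at this
      exact this.1
    have h9 : B'.ncard = 1 + (B' ∩ {i : Fin P.m | lo + 1 ≤ (i : ℕ)}).ncard := by
      have h10 : B' = insert a (B' ∩ {i : Fin P.m | lo + 1 ≤ (i : ℕ)}) := by
        ext i
        rw [Set.mem_insert_iff, Set.mem_inter_iff]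
        constructor
        · intro hi
          by_cases h : (i : ℕ) = lo
          · exact Or.inl (Fin.ext h)
          · refine Or.inr ⟨hi, show lo + 1 ≤ (i : ℕ) from ?_⟩
            have := hB'lo i hi
            omega
        · rintro (rfl | h)
          · exact ⟨a0, ha0, rfl⟩
          · exact h.1
      conv_lhs => rw [h10]
      rw [Set.ncard_insert_of_notMem, add_comm]
      rintro ⟨_, h11⟩
      have h11 : lo + 1 ≤ lo := h11
      omega
    rw [hXn] at hd ⊢
    rw [← hBn] at hd ⊢
    simp only [primB, List.all_eq_true, Bool.or_eq_true, bne_iff_ne, ne_eq, beq_iff_eq] at hprim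
    rcases hprim _ h8 with (h | h) | h
    · rw [← h9] at h
      exact absurd (Nat.mod_eq_zero_of_dvd hd) h
    · left
      rw [h9, h]
    · right
      rw [h9, h]
  have hst : ¬ p ∣ Nat.card (stabilizer (ClL g lets) a0) := by
    have h1 := (stabilizer (ClL g lets) a0).card_mul_index
    rw [MulAction.index_stabilizer_of_transitive, hXn, hM, mul_comm] at h1
    have h2 := Nat.eq_of_mul_eq_mul_left (by omega : 0 < P.m - lo) h1
    rwa [h2]
  exact simple_of_prime hpp a0 hst S hS hSp

end

section

variable {G : Type*} [Group G] {g : ℕ → G} {ng k : ℕ} {l lk : List (ℕ × ℕ)} {RL RLk : List (List ℕ × ℕ)}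

open Classical in
/-- the first `k` letters as elements of the group that they generate -/
noncomputable def subFam (g : ℕ → G) (k : ℕ) (y : ℕ) : Cl g k :=
  if hy : isLet k y = true then ⟨g y, mem_Cl g hy⟩ else 1

theorem subFam_coe (g : ℕ → G) (k y : ℕ) : ((subFam g k y : Cl g k) : G) = CosetEnum.cut g k y := by
  by_cases hy : isLet k y = true
  · simp [subFam, CosetEnum.cut, hy]
  · simp [subFam, CosetEnum.cut, hy]

theorem Good.subFam (hg : Good g ng l RL) (h : cutB k l lk RL RLk = true) : Good (subFam g k) k lk RLk := by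
  have hc := hg.cut h
  constructor
  · intro y
    apply Subtype.ext
    rw [subFam_coe, hc.inv]
    simp [subFam_coe]
  · intro y hy
    apply Subtype.ext
    rw [subFam_coe, hc.one y hy]
    rfl
  · intro p hp
    apply Subtype.ext
    have : (((p.1.map (CosetEnum.subFam g k)).prod ^ p.2 : Cl g k) : G) =
        ((p.1.map (CosetEnum.cut g k)).prod) ^ p.2 := by
      have h3 : (fun y => ((CosetEnum.subFam g k y : Cl g k) : G)) = CosetEnum.cut g k :=
        funext (subFam_coe g k)
      rw [← h3]
      simp [Function.comp_def]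
    rw [this, hc.rel p hp]
    rfl

theorem subFam_top (g : ℕ → G) (k : ℕ) : Cl (subFam g k) k = ⊤ := by
  rw [eq_top_iff]
  rintro ⟨y, hy⟩ _
  have key : ∀ y (hy : y ∈ Cl g k), (⟨y, hy⟩ : Cl g k) ∈ Cl (subFam g k) k := by
    intro y hy
    induction hy using Subgroup.closure_induction with
    | mem y hy =>
      obtain ⟨z, hz, rfl⟩ := hy
      have h1 := mem_Cl (subFam g k) (show isLet k z = true from hz)
      have h2 : subFam g k z = ⟨g z, mem_Cl g hz⟩ := by
        unfold subFam
        exact dif_pos hz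
      rwa [h2] at h1
    | one => exact (Cl (subFam g k) k).one_mem
    | mul y z _ _ h1 h2 => exact (Cl (subFam g k) k).mul_mem h1 h2
    | inv y _ h1 => exact (Cl (subFam g k) k).inv_mem h1
  exact key y hy

end

end Cfsg.Agent.CosetEnum
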